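import Groth.Agent.EtCechLib.Cartan
import Groth.Agent.SpecSeq.Bicomplex
import Groth.Agent.SiteCoh.Derived

/-!
# The Čech complex of a covering of an object, as a functor of the sheaf

The site is arbitrary (not assumed small).
-/

set_option autoImplicit false
set_option backward.isDefEq.respectTransparency.types false
set_option backward.isDefEq.respectTransparency false

universe w v u

open CategoryTheory CategoryTheory.Limits Opposite
open Groth.Agent.SiteCoh

namespace Groth.Agent.Desc19b.FppfSS

variable {C : Type u} [Category.{v} C] (J : GrothendieckTopology C)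
  [HasSheafify J AddCommGrpCat.{w}] [J.WEqualsLocallyBijective AddCommGrpCat.{w}]
  {U : C} [HasFiniteProducts (Over U)] {ι : Type w} (W : ι → Over U)

/-- The restriction of a sheaf to the objects over `U`. -/
abbrev psh (F : Sheaf J AddCommGrpCat.{w}) : (Over U)ᵒᵖ ⥤ AddCommGrpCat.{w} :=
  (Over.forget U).op ⋙ F.obj

/-- The Čech complex, as a functor of the sheaf. -/
noncomputable def cxFunctor : Sheaf J AddCommGrpCat.{w} ⥤ CochainComplex AddCommGrpCat.{w} ℕ :=
  sheafToPresheaf J AddCommGrpCat.{w} ⋙ (Functor.whiskeringLeft _ _ _).obj (Over.forget U).op ⋙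
    cechComplexFunctor W

variable {J}

theorem cxFunctor_map_ev {F G : Sheaf J AddCommGrpCat.{w}} (φ : F ⟶ G) {p : ℕ}
    (x : (Cech.cx (psh J F) W).X p) (a : Fin (p + 1) → ι) :
    Cech.ev (psh J G) W a (((cxFunctor J W).map φ).f p x) =
      φ.hom.app (op (Cech.inter W a).left) (Cech.ev (psh J F) W a x) :=
  ConcreteCategory.congr_hom
    (Limits.Pi.map_π (fun i : Fin (p + 1) → ι =>
      (Functor.whiskerLeft (Over.forget U).op φ.hom).app (op (Cech.inter W i))) a) x

instance cxFunctor_additive : (cxFunctor J W).Additive where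
  map_add {F G f g} := by
    ext p x
    refine Cech.ext (psh J G) W fun a => ?_
    change Cech.ev (psh J G) W a (((cxFunctor J W).map (f + g)).f p x) =
      Cech.ev (psh J G) W a (((cxFunctor J W).map f).f p x + ((cxFunctor J W).map g).f p x)
    rw [map_add]
    refine (cxFunctor_map_ev W (f + g) x a).trans ?_
    refine Eq.trans ?_ (congrArg₂ (· + ·) (cxFunctor_map_ev W f x a) (cxFunctor_map_ev W g x a)).symm
    rfl

theorem isZero_cxFunctor_homology [LocallySmall.{w} C] (I : Sheaf J AddCommGrpCat.{w}) [Injective I]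
    (q : ℕ) : IsZero (((cxFunctor J W).obj I).homology (q + 1)) := by
  haveI := EtCechLib.injective_obj I
  exact EtCechLib.isZero_homology_of_injective W I.obj q

/-- The augmentation. -/
noncomputable def aug (F : Sheaf J AddCommGrpCat.{w}) :
    F.obj.obj (op U) ⟶ ((cxFunctor J W).obj F).X 0 :=
  AddCommGrpCat.ofHom (AddMonoidHom.mk'
    (fun x => Cech.mk (psh J F) W fun a => F.obj.map (Cech.inter W a).hom.op x)
    fun x y => Cech.ext (psh J F) W fun a => by
      rw [Cech.ev_mk]
      exact (map_add (F.obj.map (Cech.inter W a).hom.op).hom x y).trans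
        (((Cech.ev (psh J F) W a).map_add _ _).trans (by rw [Cech.ev_mk, Cech.ev_mk])).symm)

theorem ev_aug (F : Sheaf J AddCommGrpCat.{w}) (x : F.obj.obj (op U)) (a : Fin 1 → ι) :
    Cech.ev (psh J F) W a (aug W F x) = F.obj.map (Cech.inter W a).hom.op x :=
  Cech.ev_mk ..

theorem val_aug (F : Sheaf J AddCommGrpCat.{w}) (x : F.obj.obj (op U)) {V : Over U}
    (s : Fin 1 → (i : ι) × (V ⟶ W i)) :
    Cech.val (psh J F) W (aug W F x) s = F.obj.map V.hom.op x := by
  let l : V ⟶ Cech.inter W (fun k => (s k).1) := Pi.lift (f := fun k => W (s k).1) fun k => (s k).2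
  change F.obj.map l.left.op (Cech.ev (psh J F) W _ (aug W F x)) = _
  rw [ev_aug, ← ConcreteCategory.comp_apply, ← F.obj.map_comp, ← op_comp, Over.w]

theorem aug_d (F : Sheaf J AddCommGrpCat.{w}) :
    aug W F ≫ ((cxFunctor J W).obj F).d 0 1 = 0 := by
  ext x
  refine Cech.ext (psh J F) W fun a => ?_
  change Cech.ev (psh J F) W a ((Cech.cx (psh J F) W).d 0 1 (aug W F x)) = Cech.ev (psh J F) W a 0
  rw [map_zero, Cech.ev_eq_val_taut, Cech.val_d, Fin.sum_univ_two, val_aug, val_aug]
  simp

theorem aug_naturality {F G : Sheaf J AddCommGrpCat.{w}} (φ : F ⟶ G) :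
    φ.hom.app (op U) ≫ aug W G = aug W F ≫ ((cxFunctor J W).map φ).f 0 := by
  ext x
  refine Cech.ext (psh J G) W fun a => ?_
  refine (ev_aug W G _ a).trans (Eq.trans ?_ (cxFunctor_map_ev W φ (aug W F x) a).symm)
  rw [ev_aug]
  exact (NatTrans.naturality_apply φ.hom _ _).symm

variable (hW : Sieve.ofArrows (fun i => (W i).left) (fun i => (W i).hom) ∈ J U)

include hW in
theorem bijective_aug (F : Sheaf J AddCommGrpCat.{w}) :
    Function.Injective (aug W F) ∧
      ∀ y, ((cxFunctor J W).obj F).d 0 1 y = 0 → ∃ x, aug W F x = y := by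
  refine ⟨fun x x' h => EtCechLib.ext_of_cover F (fun i => (W i).hom) hW fun i => ?_, fun y hy => ?_⟩
  · have h' := congrArg (fun c => Cech.val (psh J F) W c (fun _ : Fin 1 => ⟨i, 𝟙 (W i)⟩)) h
    exact (val_aug W F x _).symm.trans (h'.trans (val_aug W F x' _))
  · let c : ∀ i, F.obj.obj (op (W i).left) := fun i =>
      Cech.val (psh J F) W y (fun _ : Fin 1 => ⟨i, 𝟙 (W i)⟩)
    have hd : ∀ {V : Over U} (i j : ι) (a : V ⟶ W i) (b : V ⟶ W j),
        F.obj.map a.left.op (c i) = F.obj.map b.left.op (c j) := by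
      intro V i j a b
      have h1 : F.obj.map a.left.op (c i) = Cech.val (psh J F) W y (fun _ : Fin 1 => ⟨i, a⟩) := by
        refine (Cech.map_val (psh J F) W y a _).trans ?_
        simp only [Category.comp_id]
      have h2 : F.obj.map b.left.op (c j) = Cech.val (psh J F) W y (fun _ : Fin 1 => ⟨j, b⟩) := by
        refine (Cech.map_val (psh J F) W y b _).trans ?_
        simp only [Category.comp_id]
      have h3 := Cech.val_d (psh J F) W y (V := V) ![⟨i, a⟩, ⟨j, b⟩]
      rw [show (Cech.cx (psh J F) W).d 0 (0 + 1) y = 0 from hy, Fin.sum_univ_two] at h3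
      have e0 : (![⟨i, a⟩, ⟨j, b⟩] : Fin 2 → (k : ι) × (V ⟶ W k)) ∘ (0 : Fin 2).succAbove =
          fun _ => ⟨j, b⟩ := funext fun k => by fin_cases k; rfl
      have e1 : (![⟨i, a⟩, ⟨j, b⟩] : Fin 2 → (k : ι) × (V ⟶ W k)) ∘ (1 : Fin 2).succAbove =
          fun _ => ⟨i, a⟩ := funext fun k => by fin_cases k; rfl
      rw [e0, e1] at h3
      rw [h1, h2]
      have h0 : ∀ {q : ℕ} (s : Fin (q + 1) → (k : ι) × (V ⟶ W k)),
          Cech.val (psh J F) W (0 : (Cech.cx (psh J F) W).X q) s = 0 := fun s => by
        change (psh J F).map _ (Cech.ev (psh J F) W _ 0) = 0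
        rw [map_zero, map_zero]
      refine (add_neg_eq_zero.1 ((Eq.trans ?_ h3.symm).trans (h0 _))).symm
      simp
    obtain ⟨t, ht, -⟩ := EtCechLib.existsUnique_amalgamation F (fun i => (W i).hom) hW c
      fun i j Z a b hab => hd (V := Over.mk (a ≫ (W i).hom)) i j (Over.homMk a rfl) (Over.homMk b hab.symm)
    refine ⟨t, Cech.ext (psh J F) W fun a => (ev_aug W F t a).trans ?_⟩
    rw [Cech.ev_eq_val_taut]
    have hs : Cech.taut W a = fun _ => ⟨a 0, Pi.π (fun k => W (a k)) 0⟩ :=
      funext fun k => by rw [Fin.eq_zero k]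
    rw [hs, ← Over.w (Pi.π (fun k => W (a k)) 0), op_comp, F.obj.map_comp,
      ConcreteCategory.comp_apply, ht]
    refine (Cech.map_val (psh J F) W y (Pi.π (fun k => W (a k)) 0) _).trans ?_
    simp only [Category.comp_id]

include hW in
theorem isIso_liftCycles (F : Sheaf J AddCommGrpCat.{w}) :
    IsIso (((cxFunctor J W).obj F).liftCycles (aug W F) 1 (by simp) (aug_d W F)) := by
  refine (ConcreteCategory.isIso_iff_bijective _).2 ⟨fun x y h => ?_, fun z => ?_⟩
  · refine (bijective_aug W hW F).1 ?_
    have h' := congrArg (fun t => ((cxFunctor J W).obj F).iCycles 0 t) h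
    simp only [← ConcreteCategory.comp_apply, HomologicalComplex.liftCycles_i] at h'
    exact h'
  · obtain ⟨x, hx⟩ := (bijective_aug W hW F).2 (((cxFunctor J W).obj F).iCycles 0 z)
      (by rw [← ConcreteCategory.comp_apply, HomologicalComplex.iCycles_d]; rfl)
    refine ⟨x, (AddCommGrpCat.mono_iff_injective (((cxFunctor J W).obj F).iCycles 0)).1
      inferInstance ?_⟩
    rw [← ConcreteCategory.comp_apply, HomologicalComplex.liftCycles_i]
    exact hx

/-- `H^0` of the Čech complex of a covering of `U` is the group of sections on `U`. -/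
noncomputable def hZeroIso :
    EtCechLib.sectionsAt J U ≅ cxFunctor J W ⋙ SpecSeq.hZero AddCommGrpCat.{w} :=
  NatIso.ofComponents
    (fun F => @asIso _ _ _ _ (((cxFunctor J W).obj F).liftCycles (aug W F) 1 (by simp) (aug_d W F))
      (isIso_liftCycles W hW F) ≪≫ ((cxFunctor J W).obj F).isoHomologyπ₀)
    (fun {F G} φ => by
      change φ.hom.app (op U) ≫ _ ≫ _ =
        (_ ≫ _) ≫ HomologicalComplex.homologyMap ((cxFunctor J W).map φ) 0
      rw [← cancel_mono ((cxFunctor J W).obj G).isoHomologyπ₀.inv]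
      simp only [asIso_hom, Category.assoc, Iso.hom_inv_id, Category.comp_id,
        CochainComplex.isoHomologyπ₀_inv_naturality, Iso.hom_inv_id_assoc]
      rw [← cancel_mono (((cxFunctor J W).obj G).iCycles 0)]
      simp [aug_naturality])

/-- For a family with one member the terms are sections on its fibre powers. -/
noncomputable def degIso [Unique ι] (p : ℕ) :
    SpecSeq.degComp (cxFunctor J W) p ≅
      EtCechLib.sectionsAt J (Cech.inter W (default : Fin (p + 1) → ι)).left :=
  NatIso.ofComponents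
    (fun F => AddEquiv.toAddCommGrpIso
      (AddEquiv.ofBijective (show (((cxFunctor J W).obj F).X p : Type w) →+ (((EtCechLib.sectionsAt J (Cech.inter W (default : Fin (p + 1) → ι)).left).obj F) : Type w) from
        Cech.ev (psh J F) W (default : Fin (p + 1) → ι))
        ⟨fun x y h => Cech.ext (psh J F) W fun a => by rw [Subsingleton.elim a default]; exact h,
          fun z => ⟨Cech.mk (psh J F) W fun a =>
            F.obj.map (eqToHom (congrArg (fun b => (Cech.inter W b).left) (Subsingleton.elim a default))).op z,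
            (Cech.ev_mk (psh J F) W _ _).trans (by simp)⟩⟩))
    (fun {F G} φ => by
      ext x
      exact cxFunctor_map_ev W φ x default)

end Groth.Agent.Desc19b.FppfSS
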