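import Groth.Agent.Desc19b.FppfSS.Cech
import Groth.Agent.Desc19b.FppfEt.Consequences
import Groth.Agent.Desc19b.SiteRes.Comp
import Groth.Agent.SpecSeq.HomSS
import Groth.Prelude.Def_SpSeq

/-!
# The descent spectral sequence of an fppf covering for étale cohomology
-/

set_option autoImplicit false
set_option backward.isDefEq.respectTransparency.types false
set_option backward.isDefEq.respectTransparency false
set_option linter.style.haveILetI false
set_option linter.all false
set_option synthInstance.maxHeartbeats 400000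
set_option maxHeartbeats 800000

universe w u

open CategoryTheory CategoryTheory.Limits CategoryTheory.Abelian AlgebraicGeometry Opposite

namespace Groth.Agent.Desc19b.FppfSS

open Groth.Agent.Desc19b.FppfEt

variable {X Y : Scheme.{u}}

/-- Sections over an object of the big fppf site. -/
noncomputable abbrev secAt {T : Scheme.{u}} (Z : Over T) : EtFppf.AbF T ⥤ AddCommGrpCat.{u + 1} :=
  EtCechLib.sectionsAt (EtFppf.J T) Z

/-- Derived functors of a composite with an exact functor preserving injectives. -/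
theorem nonempty_rightDerived_comp_exact {A B D : Type*} [Category A] [Category B] [Category D]
    [Abelian A] [Abelian B] [Abelian D] [HasInjectiveResolutions A] [HasInjectiveResolutions B]
    (R : A ⥤ B) [R.Additive] [PreservesFiniteLimits R] [PreservesFiniteColimits R]
    [R.PreservesInjectiveObjects] (G : B ⥤ D) [G.Additive] (M : A) (q : ℕ) :
    Nonempty (((R ⋙ G).rightDerived q).obj M ≅ (G.rightDerived q).obj (R.obj M)) :=
  ⟨(injectiveResolution M).isoRightDerivedObj (R ⋙ G) q ≪≫
    ((SiteCoh.mapResolution R (injectiveResolution M)).isoRightDerivedObj G q).symm⟩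

/-- The group of integers, one universe up, represents the identity of abelian groups. -/
noncomputable def homFromIntIso :
    SpecSeq.homFrom (AddCommGrpCat.of (ULift.{w} ℤ)) ≅ 𝟭 AddCommGrpCat.{w} :=
  NatIso.ofComponents
    (fun A => AddEquiv.toAddCommGrpIso
      { toFun := fun h => (show AddCommGrpCat.of (ULift.{w} ℤ) ⟶ A from h) ⟨1⟩
        invFun := fun a => AddCommGrpCat.ofHom ((zmultiplesHom A a).comp (AddEquiv.ulift : ULift.{w} ℤ ≃+ ℤ).toAddMonoidHom)
        left_inv := fun h => by
          refine AddCommGrpCat.hom_ext (AddMonoidHom.ext fun n => ?_)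
          obtain ⟨n⟩ := n
          change n • (show AddCommGrpCat.of (ULift.{w} ℤ) ⟶ A from h) ⟨1⟩ =
            (show AddCommGrpCat.of (ULift.{w} ℤ) ⟶ A from h) ⟨n⟩
          rw [← map_zsmul]
          exact congrArg _ (ULift.ext _ _ (by simp))
        right_inv := fun a => one_zsmul a
        map_add' := fun _ _ => rfl })
    (fun _ => rfl)

/-- Global sections on the big fppf site have fppf cohomology as derived functors. -/
theorem nonempty_sectionsTop_derived (T : Scheme.{u}) (M : EtFppf.AbF T) (q : ℕ) :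
    Nonempty (((secAt (T := T) (Over.mk (𝟙 T))).rightDerived q).obj M ≅
      AddCommGrpCat.of (EtFppf.HF T M q)) := by
  let A := AddCommGrpCat.of (ULift.{u + 1} ℤ)
  let adj := constantSheafAdj (EtFppf.J T) AddCommGrpCat.{u + 1} (Over.mkIdTerminal (X := T))
  let G := (sheafSections (EtFppf.J T) AddCommGrpCat.{u + 1}).obj (op (Over.mk (𝟙 T)))
  haveI : G.Additive := adj.right_adjoint_additive
  let e₁ : secAt (T := T) (Over.mk (𝟙 T)) ≅ G :=
    NatIso.ofComponents (fun _ => Iso.refl _) (fun f => by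
      simp only [Iso.refl_hom, Category.comp_id, Category.id_comp]; rfl)
  let e : secAt (T := T) (Over.mk (𝟙 T)) ≅
      SpecSeq.homFrom ((constantSheaf (EtFppf.J T) AddCommGrpCat.{u + 1}).obj A) :=
    e₁ ≪≫ (Functor.rightUnitor G).symm ≪≫ Functor.isoWhiskerLeft G homFromIntIso.symm ≪≫
      SpecSeq.homFromCompIso adj A
  exact ⟨(SiteCoh.rightDerivedCongr e q).app M ≪≫ SpecSeq.homFromDerivedIso _ M q⟩

/-- Sections over an object are global sections of the restriction. -/
noncomputable def sectionsRestrIso (Z : Over Y) :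
    secAt (T := Y) Z ≅
      pullBigF Z.hom ⋙ secAt (T := Z.left) (Over.mk (𝟙 Z.left)) :=
  NatIso.ofComponents
    (fun F => F.obj.mapIso (Over.isoMk (Iso.refl Z.left) (by simp) :
      (Over.map Z.hom).obj (Over.mk (𝟙 Z.left)) ≅ Z).op)
    (fun φ => (φ.hom.naturality _).symm)

/-- Sections over an object have fppf cohomology of the restriction as derived functors. -/
theorem nonempty_sectionsAt_derived (Z : Over Y) (F : EtCoh.Ab Y) (q : ℕ) :
    Nonempty (((secAt (T := Y) Z).rightDerived q).obj ((EtFppf.aPull Y).obj F) ≅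
      AddCommGrpCat.of (EtCoh.H Z.left ((EtCoh.pull Z.hom).obj F) q)) := by
  obtain ⟨e₁⟩ := nonempty_rightDerived_comp_exact (pullBigF Z.hom)
    (secAt (T := Z.left) (Over.mk (𝟙 Z.left))) ((EtFppf.aPull Y).obj F) q
  obtain ⟨e₂⟩ := nonempty_sectionsTop_derived Z.left ((EtFppf.aPull Z.left).obj ((EtCoh.pull Z.hom).obj F)) q
  obtain ⟨e₃⟩ := nonempty_H_equiv_HF Z.left ((EtCoh.pull Z.hom).obj F) q
  exact ⟨(SiteCoh.rightDerivedCongr (sectionsRestrIso Z) q).app _ ≪≫ e₁ ≪≫
    ((secAt (T := Z.left) (Over.mk (𝟙 Z.left))).rightDerived q).mapIso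
      ((aPullBaseIso Z.hom).app F) ≪≫ e₂ ≪≫ e₃.symm.toAddCommGrpIso⟩

variable (f : X ⟶ Y)

/-- The covering with one member. -/
noncomputable abbrev fam : PUnit.{u + 2} → Over (Over.mk (𝟙 Y)) :=
  fun _ => Over.mk (Over.homMk f (Category.comp_id f) : Over.mk f ⟶ Over.mk (𝟙 Y))

theorem mem_fam [Flat f] [LocallyOfFinitePresentation f] [Surjective f] :
    Sieve.ofArrows (fun i => (fam f i).left) (fun i => (fam f i).hom) ∈ EtFppf.J Y (Over.mk (𝟙 Y)) :=
  mem_J_of_fppf _ _ (fun _ => ‹Flat f›) (fun _ => ‹LocallyOfFinitePresentation f›) fun y => by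
    obtain ⟨x, hx⟩ := f.surjective y
    exact ⟨⟨⟩, x, hx⟩

/-- The members of the Čech complex are the fibre powers. -/
noncomputable def interIso [HasFiniteProducts (Over (Over.mk (𝟙 Y)))] (p : ℕ) :
    Over.mk (WidePullback.base (fun _ : Fin (p + 1) => f)) ≅
      (SiteCoh.Cech.inter (fam f) (default : Fin (p + 1) → PUnit.{u + 2})).left :=
  let I := SiteCoh.Cech.inter (fam f) (default : Fin (p + 1) → PUnit.{u + 2})
  let pr : ∀ k : Fin (p + 1), I.left.left ⟶ X := fun k =>
    (Pi.π (fun k : Fin (p + 1) => fam f ((default : Fin (p + 1) → PUnit.{u + 2}) k)) k).left.left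
  have hpr : ∀ k, pr k ≫ f = I.left.hom := fun k =>
    Over.w (Pi.π (fun k : Fin (p + 1) => fam f ((default : Fin (p + 1) → PUnit.{u + 2}) k)) k).left
  let Q : Over (Over.mk (𝟙 Y)) :=
    Over.mk (Over.homMk (WidePullback.base (fun _ : Fin (p + 1) => f)) (Category.comp_id _) :
      Over.mk (WidePullback.base (fun _ : Fin (p + 1) => f)) ⟶ Over.mk (𝟙 Y))
  let l : Q ⟶ I := Pi.lift fun k => Over.homMk
    (Over.homMk (WidePullback.π (fun _ : Fin (p + 1) => f) k) (WidePullback.π_arrow _ k))
    (Over.OverMorphism.ext (WidePullback.π_arrow (fun _ : Fin (p + 1) => f) k))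
  let m : I.left ⟶ Over.mk (WidePullback.base (fun _ : Fin (p + 1) => f)) :=
    Over.homMk (WidePullback.lift I.left.hom pr hpr) (WidePullback.lift_base _ _ _ _)
  have hl : ∀ k, l.left.left ≫ pr k = WidePullback.π (fun _ : Fin (p + 1) => f) k := fun k =>
    congrArg (fun a => a.left.left) (Pi.lift_π _ k : l ≫ Pi.π _ k = _)
  { hom := l.left
    inv := m
    hom_inv_id := by
      refine Over.OverMorphism.ext (WidePullback.hom_ext _ _ _ (fun k => ?_) ?_)
      · change (l.left.left ≫ WidePullback.lift I.left.hom pr hpr) ≫ _ = 𝟙 _ ≫ _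
        rw [Category.assoc, WidePullback.lift_π, Category.id_comp, hl]
      · change (l.left.left ≫ WidePullback.lift I.left.hom pr hpr) ≫ _ = 𝟙 _ ≫ _
        rw [Category.assoc, WidePullback.lift_base, Category.id_comp]
        exact Over.w l.left
    inv_hom_id := by
      let m' : I ⟶ Q := Over.homMk m (Over.OverMorphism.ext
        ((WidePullback.lift_base _ _ _ _).trans ((Over.w I.hom).symm.trans (Category.comp_id _))))
      have h : m' ≫ l = 𝟙 I := Pi.hom_ext _ _ fun k => by
        rw [Category.id_comp, Category.assoc, Pi.lift_π]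
        exact Over.OverMorphism.ext (Over.OverMorphism.ext (WidePullback.lift_π _ _ _ _ _))
      exact congrArg CommaMorphism.left h }

/-- The descent spectral sequence of an fppf covering, for étale cohomology. -/
theorem exists_descent [Flat f] [LocallyOfFinitePresentation f] [Surjective f] (F : EtCoh.Ab Y)
    {H : ℤ → AddCommGrpCat.{u + 1}} {E1 : ℤ → ℤ → AddCommGrpCat.{u + 1}}
    (eH : ∀ n : ℕ, Nonempty (AddCommGrpCat.of (EtCoh.H Y F n) ≅ H n))
    (zH : ∀ n : ℤ, n < 0 → IsZero (H n))
    (eX : ∀ p q : ℕ, Nonempty (AddCommGrpCat.of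
      (EtCoh.H (widePullback Y (fun _ : Fin (p + 1) => X) (fun _ => f))
        ((EtCoh.pull (WidePullback.base (fun _ : Fin (p + 1) => f) :
          widePullback Y (fun _ : Fin (p + 1) => X) (fun _ => f) ⟶ Y)).obj F) q) ≅ E1 p q))
    (zX : ∀ p q : ℤ, ¬ (0 ≤ p ∧ 0 ≤ q) → IsZero (E1 p q)) :
    ∃ (E : CohomologicalSpectralSequence AddCommGrpCat.{u + 1} 1) (a : SpSeq.Abutment E H),
      (∀ n, a.IsFinite n) ∧ SpSeq.IsBounded E ∧
      ∀ p q : ℤ, Nonempty ((E.page 1 le_rfl).X (p, q) ≅ E1 p q) := by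
  haveI : HasFiniteProducts (Over (Over.mk (𝟙 Y))) := inferInstance
  refine SpecSeq.exists_complexFunctor_pageOne (cxFunctor (EtFppf.J Y) (fam f))
    (fun Q hQ q => isZero_cxFunctor_homology (fam f) Q q) ((EtFppf.aPull Y).obj F) (fun n => ?_) zH
    (fun p q => ?_) zX
  · obtain ⟨e₁⟩ := nonempty_sectionsTop_derived Y ((EtFppf.aPull Y).obj F) n
    obtain ⟨e₂⟩ := nonempty_H_equiv_HF Y F n
    obtain ⟨e₃⟩ := eH n
    exact ⟨(SiteCoh.rightDerivedCongr (hZeroIso (fam f) (mem_fam f)).symm n).app _ ≪≫ e₁ ≪≫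
      e₂.symm.toAddCommGrpIso ≪≫ e₃⟩
  · obtain ⟨e₁⟩ := nonempty_sectionsAt_derived
      (Over.mk (WidePullback.base (fun _ : Fin (p + 1) => f))) F q
    obtain ⟨e₂⟩ := eX p q
    exact ⟨(SiteCoh.rightDerivedCongr (degIso (fam f) p ≪≫
      (NatIso.ofComponents (fun G => G.obj.mapIso (interIso f p).op) (fun φ => (φ.hom.naturality _).symm) :
        secAt (SiteCoh.Cech.inter (fam f) (default : Fin (p + 1) → PUnit.{u + 2})).left ≅
          secAt (Over.mk (WidePullback.base (fun _ : Fin (p + 1) => f))))) q).app _ ≪≫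
      e₁ ≪≫ e₂⟩

end Groth.Agent.Desc19b.FppfSS
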